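import Groth.Agent.S1561
import Groth.Agent.S1570
import Groth.Agent.S8914
import Groth.Agent.S10831
import Groth.Agent.RegDual.Scheme
import Groth.Agent.InfLift.SchemeSmallExt
import Groth.Agent.SmDesc.Scheme
import Groth.Agent.CurveRR.Point
import Groth.Agent.RatExt.Points

/-!
The ideal of a closed point of an equidimensional reduced curve is invertible iff the point is regular.
-/

set_option autoImplicit false
set_option backward.isDefEq.respectTransparency false
set_option linter.style.haveILetI false

universe u

open CategoryTheory AlgebraicGeometry TopologicalSpace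

namespace Groth.Agent.CurvePtCartier

/-- The vanishing ideal of a closed point generates the maximal ideal of the stalk. -/
theorem map_vanishingIdeal_point {X : Scheme.{u}} {x : X} (hP : IsClosed ({x} : Set X)) (U : X.affineOpens)
    (hxU : x ∈ U.1) :
    ((Scheme.IdealSheafData.vanishingIdeal ⟨{x}, hP⟩).ideal U).map (X.presheaf.germ U.1 x hxU).hom =
      IsLocalRing.maximalIdeal (X.presheaf.stalk x) := by
  letI : Algebra Γ(X, U.1) (X.presheaf.stalk x) := (X.presheaf.germ U.1 x hxU).hom.toAlgebra
  haveI := U.2.isLocalization_stalk ⟨x, hxU⟩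
  let q := U.2.primeIdealOf ⟨x, hxU⟩
  have hid : (Scheme.IdealSheafData.vanishingIdeal ⟨{x}, hP⟩).ideal U = q.asIdeal := by
    rw [Scheme.IdealSheafData.vanishingIdeal_ideal]
    show PrimeSpectrum.vanishingIdeal (U.2.fromSpec ⁻¹' (({x} : Set X))) = q.asIdeal
    rw [show U.2.fromSpec ⁻¹' (({x} : Set X)) = {q} from ?_, PrimeSpectrum.vanishingIdeal_singleton]
    ext p
    simp only [Set.mem_preimage, Set.mem_singleton_iff]
    exact ⟨fun h => U.2.fromSpec.isOpenEmbedding.injective (h.trans (U.2.fromSpec_primeIdealOf ⟨x, hxU⟩).symm),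
      fun h => h ▸ U.2.fromSpec_primeIdealOf ⟨x, hxU⟩⟩
  rw [hid, ← IsLocalization.AtPrime.under_maximalIdeal (X.presheaf.stalk x) q.asIdeal]
  exact IsLocalization.map_under q.asIdeal.primeCompl (X.presheaf.stalk x) _

theorem one_le_ringKrullDim {X : Scheme.{u}}
    (hequi : ∀ Z ∈ irreducibleComponents (X : Type u), topologicalKrullDim Z = 1) {P : X}
    (hP : IsClosed ({P} : Set X)) : 1 ≤ ringKrullDim (X.presheaf.stalk P) := by
  let η : X := (isIrreducible_irreducibleComponent (x := P)).genericPoint
  have hηZ : closure ({η} : Set X) = irreducibleComponent P := by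
    rw [IsIrreducible.genericPoint_closure_eq, (isClosed_irreducibleComponent).closure_eq]
  have hspec : η ⤳ P := by
    rw [specializes_iff_mem_closure, hηZ]
    exact mem_irreducibleComponent
  have hne : η ≠ P := by
    intro h
    rw [h, hP.closure_eq] at hηZ
    have h1 := hequi _ (irreducibleComponent_mem_irreducibleComponents P)
    rw [← hηZ] at h1
    have := topologicalKrullDim_zero_of_discreteTopology (({P} : Set X))
    rw [h1] at this
    exact absurd this (by decide)
  obtain ⟨p, hp⟩ : η ∈ Set.range (X.fromSpecStalk P) := by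
    rw [Scheme.range_fromSpecStalk]; exact hspec
  obtain ⟨q, hq⟩ : P ∈ Set.range (X.fromSpecStalk P) := by
    rw [Scheme.range_fromSpecStalk]; exact specializes_rfl
  by_contra hlt
  haveI : Ring.KrullDimLE 0 (X.presheaf.stalk P) := Ring.krullDimLE_iff.2 ?_
  · have hall : ∀ r : PrimeSpectrum (X.presheaf.stalk P), r.asIdeal = IsLocalRing.maximalIdeal _ := fun r =>
      Ring.KrullDimLE.eq_maximalIdeal_of_isPrime r.asIdeal
    exact hne (hp.symm.trans ((congrArg (fun r => X.fromSpecStalk P r)
      (PrimeSpectrum.ext ((hall p).trans (hall q).symm))).trans hq))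
  · have h2 := lt_of_not_ge hlt
    generalize ringKrullDim (X.presheaf.stalk P) = d at h2 ⊢
    induction d using WithBot.recBotCoe with
    | bot => exact bot_le
    | coe d =>
      have h3 : d < (1 : ℕ∞) := WithBot.coe_lt_coe.1 h2
      exact_mod_cast (Order.lt_one_iff_nonpos.1 h3)

/-- Invertibility of the ideal of a closed point is regularity. -/
theorem isInvertible_iff_regular {X : Scheme.{u}} [IsLocallyNoetherian X]
    (hequi : ∀ Z ∈ irreducibleComponents (X : Type u), topologicalKrullDim Z = 1) {P : X}
    (hP : IsClosed ({P} : Set X)) :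
    PicF.IsInvertible (ClSub.idealMod (Scheme.IdealSheafData.vanishingIdeal ⟨{P}, hP⟩)) ↔
      IsRegularLocalRing (X.presheaf.stalk P) := by
  have h1 : 1 ≤ ringKrullDim (X.presheaf.stalk P) := one_le_ringKrullDim hequi hP
  have htd : topologicalKrullDim X ≤ 1 := by
    rw [Groth.Agent.S10831.result X]
    exact iSup₂_le fun Z hZ => (hequi Z hZ).le
  have hdim : ringKrullDim (X.presheaf.stalk P) = 1 :=
    le_antisymm ((Groth.Agent.RegDual.ringKrullDim_stalk_le_topologicalKrullDim P).trans htd) h1
  have hfg : (IsLocalRing.maximalIdeal (X.presheaf.stalk P)).FG := IsNoetherian.noetherian _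
  rw [Groth.Agent.S8914.result]
  constructor
  · intro h
    obtain ⟨U, hPU, f, -, hf⟩ := h P
    have hm := map_vanishingIdeal_point hP U hPU
    rw [hf, Ideal.map_span, Set.image_singleton] at hm
    refine IsRegularLocalRing.of_spanFinrank_maximalIdeal_le _ ?_
    rw [hdim, ← hm]
    exact_mod_cast (Submodule.spanFinrank_span_le_ncard_of_finite (Set.finite_singleton _)).trans
      (Set.ncard_singleton _).le
  · intro hreg
    haveI := hreg
    obtain ⟨_, -⟩ := Groth.Agent.RatExt.domain_valuationRing_of_regular hreg hdim.le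
    refine Groth.Agent.S1570.result X _ fun x hx U hxU => ?_
    obtain rfl : x = P := by
      have hx' : x ∈ ((Scheme.IdealSheafData.vanishingIdeal ⟨{P}, hP⟩).support : Set X) := hx
      simpa using hx'
    have hsp : (IsLocalRing.maximalIdeal (X.presheaf.stalk x)).spanFinrank = 1 := by
      have := hreg.spanFinrank_maximalIdeal
      rw [hdim] at this
      exact_mod_cast this
    haveI := ((Submodule.spanFinrank_eq_one_iff _).mp hsp).1
    let g := Submodule.IsPrincipal.generator (IsLocalRing.maximalIdeal (X.presheaf.stalk x))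
    have hspan : Ideal.span {g} = IsLocalRing.maximalIdeal (X.presheaf.stalk x) := Ideal.span_singleton_generator _
    refine ⟨g, mem_nonZeroDivisors_of_ne_zero fun hg => ?_, (map_vanishingIdeal_point hP U hxU).trans hspan.symm⟩
    have h0 : IsLocalRing.maximalIdeal (X.presheaf.stalk x) = ⊥ := by
      rw [← hspan, hg, Ideal.span_singleton_eq_bot]
    rw [h0, Submodule.spanFinrank_bot] at hsp
    exact zero_ne_one hsp

end Groth.Agent.CurvePtCartier
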